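import Groth.Agent.ProUH71.Ring
import Groth.Agent.EtFound.UnivInjPush
import Mathlib.RingTheory.TensorProduct.Pi

/-!
# Etale algebras over the source of a universal homeomorphism are covered
-/

universe u

open CategoryTheory CategoryTheory.Limits AlgebraicGeometry
open scoped TensorProduct

namespace Groth.Agent.ProUH71

set_option backward.isDefEq.respectTransparency.types false

variable {A A' : Type u} [CommRing A] [CommRing A'] [Algebra A A']

/-- etale algebras over `A'` are covered by base changes of etale algebras over `A` -/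
theorem etLiftable (h : IsUH A A') : EtLiftable A A' := by
  intro B _ _ _
  let f : Spec (CommRingCat.of A') ⟶ Spec (CommRingCat.of A) := Spec.map (CommRingCat.ofHom (algebraMap A A'))
  have := h.1
  have := h.2.1
  let b : Spec (CommRingCat.of B) ⟶ Spec (CommRingCat.of A') := Spec.map (CommRingCat.ofHom (algebraMap A' B))
  have hb : Etale b := (HasRingHomProperty.Spec_iff (P := @Etale)).2
    (RingHom.etale_algebraMap.2 (inferInstance : Algebra.Etale A' B))
  let U : (Spec (CommRingCat.of A')).Etale := Scheme.Etale.mk b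
  have key : ∀ x : U.left, ∃ (R : CommRingCat.{u}) (ρ : CommRingCat.of A ⟶ R)
      (_ : Etale (Spec.map ρ)) (k : pullback f (Spec.map ρ) ⟶ Spec (CommRingCat.of B)),
      k ≫ b = pullback.fst f (Spec.map ρ) ∧ x ∈ Set.range k.base := fun x => by
    obtain ⟨V, k, y, hy⟩ := EtFound.liftable_of_integral_univInj f U x
    obtain ⟨R, j, hj, hxR, -⟩ := Scheme.exists_affine_mem_range_and_range_subset
      (x := (pullback.fst V.hom f).base y) (U := (⊤ : V.left.Opens)) trivial
    obtain ⟨r, hr⟩ := hxR
    obtain ⟨ρ, hρ⟩ := Spec.map_surjective (j ≫ V.hom)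
    have hV : Etale V.hom := V.prop
    have hρe : Etale (Spec.map ρ) := by rw [hρ]; infer_instance
    let m : pullback f (Spec.map ρ) ⟶ pullback V.hom f :=
      pullback.lift (pullback.snd f (Spec.map ρ) ≫ j) (pullback.fst f (Spec.map ρ)) (by
        rw [Category.assoc, ← hρ, ← pullback.condition])
    refine ⟨R, ρ, hρe, m ≫ k.left, ?_, ?_⟩
    · have hw : (k.left : pullback V.hom f ⟶ Spec (CommRingCat.of B)) ≫ b = pullback.snd V.hom f :=
        MorphismProperty.Over.w k
      refine (Category.assoc _ _ _).trans ((congrArg (m ≫ ·) hw).trans ?_)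
      exact pullback.lift_snd _ _ _
    · have h1 : f.base ((pullback.snd V.hom f).base y) = (Spec.map ρ).base r := by
        rw [hρ, ← Scheme.Hom.comp_apply, ← pullback.condition, Scheme.Hom.comp_apply, ← hr, Scheme.Hom.comp_apply]
      obtain ⟨w, hw1, hw2⟩ := Scheme.Pullback.exists_preimage_pullback (f := f) (g := Spec.map ρ) _ r h1
      refine ⟨w, ?_⟩
      have hm : m.base w = y := by
        have : UniversallyInjective (pullback.fst V.hom f) :=
          MorphismProperty.pullback_fst (P := @UniversallyInjective) V.hom f h.2.1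
        refine (pullback.fst V.hom f).injective ?_
        rw [← hr, ← hw2, ← Scheme.Hom.comp_apply, pullback.lift_fst, Scheme.Hom.comp_apply]
      rw [← hy, ← hm]
      exact Scheme.Hom.comp_apply _ _ _
  choose R ρ hρ k hk hx using key
  have hopen : ∀ x, IsOpen (Set.range (k x).base) := fun x => by
    have := hρ x
    have : Etale (k x ≫ b) := by rw [hk]; infer_instance
    have : Etale (k x) := MorphismProperty.of_postcomp (W := @Etale) (W' := @Etale) (k x) b hb this
    exact (k x).isOpenMap.isOpen_range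
  have : CompactSpace U.left := inferInstanceAs (CompactSpace (Spec (CommRingCat.of B)))
  obtain ⟨s, hs⟩ := (isCompact_univ (X := U.left)).elim_finite_subcover (fun x => Set.range (k x).base) hopen
    fun x _ => Set.mem_iUnion.2 ⟨x, hx x⟩
  classical
  let W : s → Type u := fun i => R i.1
  let _ : ∀ i : s, CommRing (W i) := fun i => inferInstanceAs (CommRing (R i.1))
  let _ : ∀ i : s, Algebra A (W i) := fun i => (ρ i.1).hom.toAlgebra
  have hW : ∀ i : s, Algebra.Etale A (W i) := fun i =>
    RingHom.etale_algebraMap.1 ((HasRingHomProperty.Spec_iff (P := @Etale)).1 (hρ i.1))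
  have hφ : ∀ i : s, ∃ φ : B →ₐ[A'] A' ⊗[A] W i,
      Spec.map (CommRingCat.ofHom φ.toRingHom) = (pullbackSpecIso A A' (W i)).inv ≫ k i.1 := fun i => by
    obtain ⟨φ, hφ⟩ := Spec.map_surjective ((pullbackSpecIso A A' (W i)).inv ≫ k i.1)
    refine ⟨{ φ.hom with commutes' := fun a => ?_ }, ?_⟩
    · have h1 : Spec.map (CommRingCat.ofHom (algebraMap A' B) ≫ φ) =
          Spec.map (CommRingCat.ofHom (algebraMap A' (A' ⊗[A] W i))) := by
        rw [Spec.map_comp, hφ, Category.assoc, hk]
        exact pullbackSpecIso_inv_fst' A A' (W i)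
      exact ConcreteCategory.congr_hom (Spec.map_injective h1) a
    · exact hφ
  choose φ hφ using hφ
  let e := Algebra.TensorProduct.piRight A A' A' W
  refine ⟨∀ i : s, W i, inferInstance, inferInstance, inferInstance,
    e.symm.toAlgHom.comp (AlgHom.pi φ), fun p => ?_⟩
  obtain ⟨x, hxs, w, hw⟩ := Set.mem_iUnion₂.1 (hs (Set.mem_univ (p : U.left)))
  let i : s := ⟨x, hxs⟩
  let r : PrimeSpectrum (A' ⊗[A] W i) := (pullbackSpecIso A A' (W i)).hom.base w
  refine ⟨PrimeSpectrum.comap ((Pi.evalRingHom (fun i => A' ⊗[A] W i) i).comp e.toAlgHom.toRingHom) r, ?_⟩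
  have h1 : PrimeSpectrum.comap (φ i).toRingHom r = p := by
    refine Eq.trans (congrArg (fun q : Spec (CommRingCat.of (A' ⊗[A] W i)) ⟶ Spec (CommRingCat.of B) => q.base r) (hφ i)) ?_
    show ((pullbackSpecIso A A' (W i)).inv ≫ k x).base ((pullbackSpecIso A A' (W i)).hom.base w) = p
    rw [← Scheme.Hom.comp_apply, Iso.hom_inv_id_assoc]
    exact hw
  rw [← h1]
  refine PrimeSpectrum.ext (Ideal.ext fun c => ?_)
  show e (e.symm (AlgHom.pi φ c)) i ∈ r.asIdeal ↔ φ i c ∈ r.asIdeal
  rw [AlgEquiv.apply_symm_apply]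
  rfl

end Groth.Agent.ProUH71
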