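import Groth.Agent.Hensel.Colim
import Groth.Agent.IndEtLib.Sys
import Groth.Agent.WStrictLib.Square
import Groth.Agent.S0736
import Mathlib.AlgebraicGeometry.Morphisms.UniversallyInjective
import Mathlib.AlgebraicGeometry.Morphisms.Integral
import Mathlib.RingTheory.Unramified.Finite
import Mathlib.RingTheory.Etale.Pi
import Mathlib.FieldTheory.IsAlgClosed.AlgebraicClosure

/-!
# Ind-étale algebras over the target of a universal homeomorphism are covered from the source
-/

universe u

open CategoryTheory CategoryTheory.Limits AlgebraicGeometry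
open scoped TensorProduct

namespace Groth.Agent.ProUH71

/-- `Spec` of the ring map is a universal homeomorphism -/
def IsUH (A A' : Type u) [CommRing A] [CommRing A'] [Algebra A A'] : Prop :=
  IsIntegralHom (Spec.map (CommRingCat.ofHom (algebraMap A A'))) ∧
    UniversallyInjective (Spec.map (CommRingCat.ofHom (algebraMap A A'))) ∧
    Surjective (Spec.map (CommRingCat.ofHom (algebraMap A A')))

variable {A A' : Type u} [CommRing A] [CommRing A'] [Algebra A A']

theorem isHomeomorph_includeRight (h : IsUH A A') (C : Type u) [CommRing C] [Algebra A C] :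
    IsHomeomorph (PrimeSpectrum.comap (Algebra.TensorProduct.includeRight (R := A) (A := A') (B := C)).toRingHom) := by
  have hp := (isPullback_SpecMap_of_isPushout _ _ _ _ (CommRingCat.isPushout_tensorProduct A A' C))
  obtain ⟨h1, h2, h3⟩ := h
  let ι : Spec (CommRingCat.of (A' ⊗[A] C)) ⟶ Spec (CommRingCat.of C) :=
    Spec.map (CommRingCat.ofHom (Algebra.TensorProduct.includeRight (R := A) (A := A') (B := C)).toRingHom)
  have i1 : IsIntegralHom ι := MorphismProperty.of_isPullback (P := @IsIntegralHom) hp h1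
  have i2 : UniversallyInjective ι := MorphismProperty.of_isPullback (P := @UniversallyInjective) hp h2
  have i3 : Surjective ι := MorphismProperty.of_isPullback (P := @Surjective) hp h3
  exact isHomeomorph_iff_continuous_isClosedMap_bijective.2
    ⟨ι.continuous, ι.isClosedMap, ι.injective, ι.surjective⟩

variable {K : Type u} [CommRing K] [Algebra A K] [Algebra A' K] [IsScalarTower A A' K]

variable (A A' K) in
/-- the map of the base changed henselian neighbourhood to `K` -/
noncomputable def projT : A' ⊗[A] Hensel.Henz A K →ₐ[A'] K :=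
  Algebra.TensorProduct.lift (Algebra.ofId A' K) (Hensel.Henz.proj A K) fun _ _ => .all _ _

/-- idempotents which are one in `K` are one -/
theorem eq_one_of_projT (h : IsUH A A') {e : A' ⊗[A] Hensel.Henz A K} (he : IsIdempotentElem e)
    (h1 : projT A A' K e = 1) : e = 1 := by
  let ι := (Algebra.TensorProduct.includeRight (R := A) (A := A') (B := Hensel.Henz A K)).toRingHom
  have hh := isHomeomorph_includeRight h (Hensel.Henz A K)
  let s := PrimeSpectrum.isIdempotentElemEquivClopens ⟨e, he⟩
  let t : TopologicalSpace.Clopens (PrimeSpectrum (Hensel.Henz A K)) :=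
    ⟨PrimeSpectrum.comap ι '' (s : Set (PrimeSpectrum (A' ⊗[A] Hensel.Henz A K))), hh.isClosedMap _ s.2.1, hh.isOpenMap _ s.2.2⟩
  let c := PrimeSpectrum.isIdempotentElemEquivClopens.symm t
  have hc : ι c.1 = e := by
    refine congrArg Subtype.val (PrimeSpectrum.isIdempotentElemEquivClopens.injective
      (show PrimeSpectrum.isIdempotentElemEquivClopens (⟨ι c.1, c.2.map ι⟩ : {x // IsIdempotentElem x}) =
        PrimeSpectrum.isIdempotentElemEquivClopens ⟨e, he⟩ from TopologicalSpace.Clopens.ext ?_))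
    rw [PrimeSpectrum.coe_isIdempotentElemEquivClopens_apply]
    have h2 : (PrimeSpectrum.basicOpen c.1 : Set (PrimeSpectrum (Hensel.Henz A K))) = (t : Set _) :=
      congrArg (fun o : TopologicalSpace.Opens (PrimeSpectrum (Hensel.Henz A K)) => (o : Set (PrimeSpectrum (Hensel.Henz A K)))) (PrimeSpectrum.basicOpen_isIdempotentElemEquivClopens_symm t)
    have h3 : (PrimeSpectrum.basicOpen (ι c.1) : Set (PrimeSpectrum (A' ⊗[A] Hensel.Henz A K))) =
        PrimeSpectrum.comap ι ⁻¹' (t : Set _) := by rw [← h2]; rfl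
    exact h3.trans (Set.preimage_image_eq _ hh.injective)
  have h4 : Hensel.Henz.proj A K c.1 = 1 := by
    rw [← h1, ← hc]
    show _ = projT A A' K ((1 : A') ⊗ₜ[A] c.1)
    rw [projT, Algebra.TensorProduct.lift_tmul, map_one, one_mul]
  have h5 : c.1 = 1 := by
    have hu : IsUnit c.1 := Hensel.Henz.isUnit_of_proj_eq_one h4
    exact (IsIdempotentElem.iff_eq_one_of_isUnit hu).1 c.2
  rw [← hc, h5, map_one]

/-- maps from unramified algebras are determined in `K` -/
theorem algHom_eq_of_projT (h : IsUH A A') {B : Type u} [CommRing B] [Algebra A' B] [Algebra.Etale A' B]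
    (g₁ g₂ : B →ₐ[A'] A' ⊗[A] Hensel.Henz A K) (hg : (projT A A' K).comp g₁ = (projT A A' K).comp g₂) : g₁ = g₂ := by
  obtain ⟨t, ht, ht1⟩ := Algebra.FormallyUnramified.iff_exists_tensorProduct.mp
    (inferInstance : Algebra.FormallyUnramified A' B)
  let L := Algebra.TensorProduct.lift g₁ g₂ fun _ _ => .all _ _
  have hmul : ∀ x : B ⊗[A'] B, x * t = (Algebra.TensorProduct.lmul' A' x ⊗ₜ 1) * t := fun x => by
    induction x using TensorProduct.induction_on with
    | zero => simp
    | tmul a b =>
      rw [Algebra.TensorProduct.lmul'_apply_tmul]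
      have h0 : (1 ⊗ₜ b : B ⊗[A'] B) * t = (b ⊗ₜ 1) * t := by
        have := ht b
        rw [sub_mul, sub_eq_zero] at this
        exact this
      calc (a ⊗ₜ b : B ⊗[A'] B) * t = (a ⊗ₜ 1) * ((1 ⊗ₜ b) * t) := by
            rw [← mul_assoc, Algebra.TensorProduct.tmul_mul_tmul, mul_one, one_mul]
        _ = _ := by rw [h0, ← mul_assoc, Algebra.TensorProduct.tmul_mul_tmul, mul_one]
    | add x y hx hy => rw [add_mul, hx, hy, map_add, TensorProduct.add_tmul, add_mul]
  have hid : IsIdempotentElem t := by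
    show t * t = t
    rw [hmul t, ht1, ← Algebra.TensorProduct.one_def, one_mul]
  have hL : ∀ x, projT A A' K (L x) = projT A A' K (g₁ (Algebra.TensorProduct.lmul' A' x)) := fun x => by
    induction x using TensorProduct.induction_on with
    | zero => simp
    | tmul a b =>
      rw [Algebra.TensorProduct.lmul'_apply_tmul, map_mul, map_mul, show L (a ⊗ₜ b) = g₁ a * g₂ b from
        Algebra.TensorProduct.lift_tmul _ _ _ _ _, map_mul]
      exact congrArg (_ * ·) (AlgHom.congr_fun hg b).symm
    | add x y hx hy => simp only [map_add, hx, hy]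
  have he : L t = 1 := eq_one_of_projT h (hid.map L) (by rw [hL, ht1, map_one, map_one])
  refine AlgHom.ext fun b => ?_
  have h1 := congrArg L (ht b)
  rw [map_mul, he, mul_one, map_zero, map_sub, sub_eq_zero] at h1
  simpa [L] using h1.symm

/-- étale algebras over `A'` are covered by base changes of étale algebras -/
def EtLiftable (A A' : Type u) [CommRing A] [CommRing A'] [Algebra A A'] : Prop :=
  ∀ (B : Type u) [CommRing B] [Algebra A' B] [Algebra.Etale A' B],
    ∃ (V : Type u) (_ : CommRing V) (_ : Algebra A V) (_ : Algebra.Etale A V) (φ : B →ₐ[A'] A' ⊗[A] V),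
      Function.Surjective (PrimeSpectrum.comap φ.toRingHom)

/-- points lift along surjective maps of finite type -/
theorem exists_extend {B D Ω : Type u} [CommRing B] [CommRing D] [Algebra A' B] [Algebra A' D]
    [Algebra.FiniteType A' D] [Field Ω] [IsAlgClosed Ω] [Algebra A' Ω] (φ : B →ₐ[A'] D)
    (hφ : Function.Surjective (PrimeSpectrum.comap φ.toRingHom)) (χ : B →ₐ[A'] Ω) :
    ∃ ψ : D →ₐ[A'] Ω, ψ.comp φ = χ := by
  let : Algebra B D := φ.toRingHom.toAlgebra
  let : Algebra B Ω := χ.toRingHom.toAlgebra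
  have : IsScalarTower A' B D := IsScalarTower.of_algebraMap_eq fun a => (φ.commutes a).symm
  have : IsScalarTower A' B Ω := IsScalarTower.of_algebraMap_eq fun a => (χ.commutes a).symm
  have : Algebra.FiniteType B D := Algebra.FiniteType.of_restrictScalars_finiteType A' B D
  obtain ⟨q, hq⟩ := hφ (PrimeSpectrum.comap (algebraMap B Ω) ⟨⊥, Ideal.isPrime_bot⟩)
  obtain ⟨r, -, -⟩ := WStrictLib.exists_point_tensor (A := B) (B := D) (C := Ω) q ⟨⊥, Ideal.isPrime_bot⟩ hq
  have : Nontrivial (Ω ⊗[B] D) := PrimeSpectrum.nonempty_iff_nontrivial.1 ⟨r⟩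
  obtain ⟨M, hM⟩ := Ideal.exists_maximal (Ω ⊗[B] D)
  let : Field ((Ω ⊗[B] D) ⧸ M) := Ideal.Quotient.field M
  have : Algebra.FiniteType Ω ((Ω ⊗[B] D) ⧸ M) :=
    Algebra.FiniteType.of_surjective (Ideal.Quotient.mkₐ Ω M) Ideal.Quotient.mk_surjective
  have : Module.Finite Ω ((Ω ⊗[B] D) ⧸ M) := finite_of_finite_type_of_isJacobsonRing Ω _
  let e := RingEquiv.ofBijective _
    (IsAlgClosed.algebraMap_bijective_of_isIntegral (k := Ω) (K := (Ω ⊗[B] D) ⧸ M))
  let σ : Ω ⊗[B] D →ₐ[Ω] Ω :=
    { e.symm.toRingHom.comp (Ideal.Quotient.mk M) with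
      commutes' := fun a => e.symm_apply_apply a }
  let ψ : D →ₐ[B] Ω := (σ.restrictScalars B).comp Algebra.TensorProduct.includeRight
  exact ⟨ψ.restrictScalars A', AlgHom.ext fun b => ψ.commutes b⟩

/-- covering ind-étale algebras over `A'` by base changes of ind-étale algebras over `A` -/
theorem exists_cover (h : IsUH A A') (hl : EtLiftable A A') (B' : Type u) [CommRing B'] [Algebra A' B']
    (hB : EtPBC.IsIndEtale A' B') :
    ∃ (C : Type u) (_ : CommRing C) (_ : Algebra A C) (_ : Algebra.WeaklyEtale A C) (g : B' →ₐ[A'] A' ⊗[A] C),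
      Function.Surjective (PrimeSpectrum.comap g.toRingHom) := by
  obtain ⟨S, hS, ⟨eS⟩⟩ := IndEtLib.exists_sys hB
  choose V iV iV' hV φ hφ using fun j => (have := hS j; hl (S.A j))
  let Ω : PrimeSpectrum S.pt → Type u := fun p => AlgebraicClosure p.asIdeal.ResidueField
  let χ : ∀ p, S.pt →ₐ[A'] Ω p := fun p => IsScalarTower.toAlgHom A' S.pt (Ω p)
  let K := ∀ p, Ω p
  let _ : Algebra A' K := inferInstance
  let _ : Algebra A K := ((algebraMap A' K).comp (algebraMap A A')).toAlgebra
  have : IsScalarTower A A' K := IsScalarTower.of_algebraMap_eq fun _ => rfl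
  have hτ : ∀ j p, ∃ ψ : A' ⊗[A] V j →ₐ[A'] Ω p, ψ.comp (φ j) = (χ p).comp (S.ι j) := fun j p =>
    exists_extend (φ j) (hφ j) _
  choose ψ hψ using hτ
  let Ψ : ∀ j, A' ⊗[A] V j →ₐ[A'] K := fun j => AlgHom.pi (ψ j)
  let τ : ∀ j, V j →ₐ[A] K := fun j => ((Ψ j).restrictScalars A).comp Algebra.TensorProduct.includeRight
  let C := Hensel.Henz A K
  let f : ∀ j, S.A j →ₐ[A'] A' ⊗[A] C := fun j =>
    (Algebra.TensorProduct.map (AlgHom.id A' A') (Hensel.Henz.ofNbhd (V j) (τ j))).comp (φ j)
  let Δ : S.pt →ₐ[A'] K := AlgHom.pi χ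
  have hf : ∀ j, (projT A A' K).comp (f j) = Δ.comp (S.ι j) := fun j => by
    have h1 : (projT A A' K).comp (Algebra.TensorProduct.map (AlgHom.id A' A') (Hensel.Henz.ofNbhd (V j) (τ j))) = Ψ j := by
      refine Algebra.TensorProduct.ext' fun a v => ?_
      rw [AlgHom.comp_apply, Algebra.TensorProduct.map_tmul, projT, Algebra.TensorProduct.lift_tmul,
        Hensel.Henz.proj_ofNbhd]
      show algebraMap A' K a * Ψ j (1 ⊗ₜ v) = Ψ j (a ⊗ₜ v)
      rw [← (Ψ j).commutes a, ← map_mul, Algebra.TensorProduct.algebraMap_apply, Algebra.algebraMap_self,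
        RingHom.id_apply, Algebra.TensorProduct.tmul_mul_tmul, mul_one, one_mul]
    refine (AlgHom.comp_assoc _ _ _).symm.trans ?_
    rw [h1]
    refine AlgHom.ext fun b => funext fun p => ?_
    exact AlgHom.congr_fun (hψ j p) b
  have hcompat : ∀ {i j} (k : i ⟶ j), (f j).comp (S.tr k) = f i := fun {i j} k => by
    have := hS i
    refine algHom_eq_of_projT h _ _ ?_
    rw [← AlgHom.comp_assoc, hf, hf, AlgHom.comp_assoc, S.ι_tr]
  let co : Cocone S.D :=
    { pt := Under.mk (CommRingCat.ofHom (algebraMap A' (A' ⊗[A] C)))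
      ι :=
        { app := fun j => Under.homMk (CommRingCat.ofHom (f j).toRingHom)
            (CommRingCat.hom_ext (RingHom.ext fun a => (f j).commutes a))
          naturality := fun i j k => by
            ext : 1
            refine CommRingCat.hom_ext (RingHom.ext fun x => ?_)
            exact AlgHom.congr_fun (hcompat k) x } }
  let d := S.hc.desc co
  let g₀ : S.pt →ₐ[A'] A' ⊗[A] C :=
    { d.right.hom with commutes' := fun a => ConcreteCategory.congr_hom (Under.w d) a }
  have hg : ∀ x, projT A A' K (g₀ x) = Δ x := fun x => by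
    obtain ⟨j, y, rfl⟩ := S.surj x
    exact (congrArg (projT A A' K) (ConcreteCategory.congr_hom (congrArg (fun k => k.right) (S.hc.fac co j)) y)).trans
      (AlgHom.congr_fun (hf j) y)
  refine ⟨C, inferInstance, inferInstance, S0736.result A C (Hensel.isIndEtale_henz A K),
    g₀.comp eS.symm.toAlgHom, fun p => ?_⟩
  let q := PrimeSpectrum.comap eS.toAlgHom.toRingHom p
  let e : A' ⊗[A] C →+* Ω q := (Pi.evalRingHom Ω q).comp (projT A A' K).toRingHom
  refine ⟨⟨RingHom.ker e, RingHom.ker_isPrime e⟩, PrimeSpectrum.ext (Ideal.ext fun b => ?_)⟩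
  show e (g₀ (eS.symm b)) = 0 ↔ b ∈ p.asIdeal
  have h1 : e (g₀ (eS.symm b)) = algebraMap S.pt (Ω q) (eS.symm b) := congrFun (hg _) q
  rw [h1, IsScalarTower.algebraMap_apply S.pt q.asIdeal.ResidueField (Ω q), map_eq_zero_iff _
    (algebraMap q.asIdeal.ResidueField (Ω q)).injective, Ideal.algebraMap_residueField_eq_zero]
  show eS (eS.symm b) ∈ p.asIdeal ↔ _
  rw [AlgEquiv.apply_symm_apply]

end Groth.Agent.ProUH71
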