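import Groth.Agent.ProUH71.Lift
import Groth.Agent.EtModLC71.ClosedSite

/-!
# The pro-etale site of a universal homeomorphism
-/

universe u

open CategoryTheory CategoryTheory.Limits AlgebraicGeometry Opposite
open scoped TensorProduct

namespace Groth.Agent.ProUH71

set_option backward.isDefEq.respectTransparency.types false

variable {Z X : Scheme.{u}} (i : Z ⟶ X) [IsIntegralHom i] [UniversallyInjective i] [Surjective i]

/-- base change along a universal homeomorphism is cover dense -/
theorem isCoverDense_bcP : (ProEtS.bcP i).IsCoverDense (Scheme.ProEt.topology Z) := by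
  refine ⟨fun T => ?_⟩
  have key : ∀ x : T.left, ∃ (O : T.left.Opens), x ∈ O ∧
      ∃ (W : Z.ProEt) (g : W ⟶ ProEtLib.opObj T O), QuasiCompact g.left ∧ Surjective g.left ∧
        Sieve.coverByImage (ProEtS.bcP i) T (g ≫ ProEtLib.opHom T O) := by
    intro x
    obtain ⟨Xb, hXb, hx, -⟩ := exists_isAffineOpen_mem_and_subset
      (show i.base (T.hom.base x) ∈ (⊤ : X.Opens) from trivial)
    obtain ⟨O, hO, hxO, hOle⟩ := exists_isAffineOpen_mem_and_subset
      (show x ∈ T.hom ⁻¹ᵁ (i ⁻¹ᵁ Xb) from hx)
    have : IsAffine O.toScheme := hO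
    have : IsAffine Xb.toScheme := hXb
    let Zb := i ⁻¹ᵁ Xb
    have hres : IsPullback (i ∣_ Xb) Zb.ι Xb.ι i := isPullback_morphismRestrict i Xb
    have i1 : IsIntegralHom (i ∣_ Xb) := MorphismProperty.of_isPullback (P := @IsIntegralHom) hres.flip inferInstance
    have i2 : UniversallyInjective (i ∣_ Xb) := MorphismProperty.of_isPullback (P := @UniversallyInjective) hres.flip inferInstance
    have i3 : Surjective (i ∣_ Xb) := MorphismProperty.of_isPullback (P := @Surjective) hres.flip inferInstance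
    have : IsAffine Zb.toScheme := isAffine_of_isAffineHom (i ∣_ Xb)
    let A := Γ(Xb.toScheme, ⊤)
    let A' := Γ(Zb.toScheme, ⊤)
    let _ : Algebra A A' := (i ∣_ Xb).appTop.hom.toAlgebra
    have hmap : Spec.map (CommRingCat.ofHom (algebraMap A A')) =
        Zb.toScheme.isoSpec.inv ≫ (i ∣_ Xb) ≫ Xb.toScheme.isoSpec.hom :=
      (Iso.eq_inv_comp _).2 (Scheme.isoSpec_hom_naturality (i ∣_ Xb))
    have hUH : IsUH A A' := by
      refine ⟨?_, ?_, ?_⟩
      · rw [hmap]; exact MorphismProperty.comp_mem (W := @IsIntegralHom) _ _ inferInstance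
          (MorphismProperty.comp_mem (W := @IsIntegralHom) _ _ i1 inferInstance)
      · rw [hmap]; exact MorphismProperty.comp_mem (W := @UniversallyInjective) _ _ inferInstance
          (MorphismProperty.comp_mem (W := @UniversallyInjective) _ _ i2 inferInstance)
      · rw [hmap]; exact MorphismProperty.comp_mem (W := @Surjective) _ _ inferInstance
          (MorphismProperty.comp_mem (W := @Surjective) _ _ i3 inferInstance)
    let jO : O.toScheme ⟶ Zb.toScheme := IsOpenImmersion.lift Zb.ι (O.ι ≫ T.hom) (by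
      rintro _ ⟨y, rfl⟩
      rw [Scheme.Opens.range_ι]
      exact hOle y.2)
    have hjO : jO ≫ Zb.ι = O.ι ≫ T.hom := IsOpenImmersion.lift_fac _ _ _
    have : WeaklyEtale T.hom := T.prop
    have : WeaklyEtale (jO ≫ Zb.ι) := by rw [hjO]; infer_instance
    have : WeaklyEtale jO := MorphismProperty.of_postcomp (W := @WeaklyEtale) (W' := @WeaklyEtale) jO
      Zb.ι inferInstance inferInstance
    let B := Γ(O.toScheme, ⊤)
    let _ : Algebra A' B := jO.appTop.hom.toAlgebra
    have hB : Spec.map (CommRingCat.ofHom (algebraMap A' B)) = O.toScheme.isoSpec.inv ≫ jO ≫ Zb.toScheme.isoSpec.hom :=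
      (Iso.eq_inv_comp _).2 (Scheme.isoSpec_hom_naturality jO)
    have hwB : WeaklyEtale (Spec.map (CommRingCat.ofHom (algebraMap A' B))) := by rw [hB]; infer_instance
    have := ProEtLib.algebraWeaklyEtale_of_spec A' B
    obtain ⟨B', _, _, _, _, hff, -, hie⟩ := WStrictLib.exists_indEtale_cover (A := A') (B := B)
    obtain ⟨C, _, _, _, g, hg⟩ := exists_cover hUH (etLiftable hUH) B' hie
    let S := A' ⊗[A] C
    let a : Spec (CommRingCat.of S) ⟶ Spec (CommRingCat.of C) :=
      Spec.map (CommRingCat.ofHom (Algebra.TensorProduct.includeRight (R := A) (A := A') (B := C)).toRingHom)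
    let b : Spec (CommRingCat.of S) ⟶ Spec (CommRingCat.of A') := Spec.map (CommRingCat.ofHom (algebraMap A' S))
    let q : Spec (CommRingCat.of C) ⟶ Spec A := Spec.map (CommRingCat.ofHom (algebraMap A C))
    have hp : IsPullback a b q (Spec.map (CommRingCat.ofHom (algebraMap A A'))) :=
      (isPullback_SpecMap_of_isPushout _ _ _ _ (CommRingCat.isPushout_tensorProduct A A' C)).flip
    have hq : WeaklyEtale q := ProEtLib.weaklyEtale_spec A C
    let π : Spec (CommRingCat.of S) ⟶ O.toScheme := Spec.map (CommRingCat.ofHom g.toRingHom) ≫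
      Spec.map (CommRingCat.ofHom (algebraMap B B')) ≫ O.toScheme.isoSpec.inv
    have : Surjective (Spec.map (CommRingCat.ofHom (algebraMap B B'))) :=
      ⟨PrimeSpectrum.comap_surjective_of_faithfullyFlat⟩
    have : Surjective (Spec.map (CommRingCat.ofHom g.toRingHom)) := ⟨hg⟩
    have hπb : π ≫ jO = b ≫ Zb.toScheme.isoSpec.inv := by
      simp only [π, Category.assoc]
      rw [show O.toScheme.isoSpec.inv ≫ jO = Spec.map (CommRingCat.ofHom (algebraMap A' B)) ≫ Zb.toScheme.isoSpec.inv by
        rw [hB, Category.assoc, Category.assoc, Iso.hom_inv_id, Category.comp_id]]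
      rw [← Category.assoc, ← Category.assoc, ← Spec.map_comp, ← Spec.map_comp]
      refine congrArg (fun φ => Spec.map φ ≫ Zb.toScheme.isoSpec.inv) (CommRingCat.hom_ext (RingHom.ext fun r => ?_))
      exact (congrArg g (IsScalarTower.algebraMap_apply A' B B' r).symm).trans (g.commutes r)
    have hp' : IsPullback a (π ≫ O.ι ≫ T.hom) (q ≫ Xb.toScheme.isoSpec.inv ≫ Xb.ι) i := by
      have h2 : IsPullback a (π ≫ jO) (q ≫ Xb.toScheme.isoSpec.inv) (i ∣_ Xb) :=
        hp.of_iso (Iso.refl _) (Iso.refl _) Zb.toScheme.isoSpec.symm Xb.toScheme.isoSpec.symm (by simp)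
          (by simpa using hπb.symm) (by simp) (by
            exact (congrArg (· ≫ Xb.toScheme.isoSpec.inv) hmap).trans
              ((Category.assoc _ _ _).trans (congrArg (_ ≫ ·) (by simp))))
      have h3 := h2.paste_vert hres
      rwa [Category.assoc, Category.assoc, hjO] at h3
    have : WeaklyEtale (π ≫ O.ι ≫ T.hom) :=
      MorphismProperty.of_isPullback (P := @WeaklyEtale) hp' inferInstance
    let V' : X.ProEt := Scheme.ProEt.mk (q ≫ Xb.toScheme.isoSpec.inv ≫ Xb.ι)
    let W : Z.ProEt := Scheme.ProEt.mk (π ≫ O.ι ≫ T.hom)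
    let gW : W ⟶ ProEtLib.opObj T O := MorphismProperty.Over.homMk π
    let iW : W ≅ (ProEtS.bcP i).obj V' := MorphismProperty.Over.isoMk hp'.isoPullback hp'.isoPullback_hom_snd
    exact ⟨O, hxO, W, gW, inferInstanceAs (QuasiCompact π), inferInstanceAs (Surjective π),
      ⟨⟨V', iW.hom, iW.inv ≫ gW ≫ ProEtLib.opHom T O, iW.hom_inv_id_assoc _⟩⟩⟩
  choose O hxO W g hq hs hc using key
  refine (Scheme.ProEt.topology Z).transitive
    (ProEtLib.opens_mem_topology T O fun x => ⟨x, hxO x⟩) _ ?_
  rintro Y f ⟨Y', a, _, ⟨x⟩, rfl⟩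
  rw [Sieve.pullback_comp]
  refine (Scheme.ProEt.topology Z).pullback_stable a
    (GrothendieckTopology.superset_covering _ ?_ (ProEtLib.singleton_mem_topology (g x)))
  rintro W' h ⟨W'', b, _, ⟨⟩, rfl⟩
  rw [Sieve.pullback_apply, Category.assoc]
  exact (Sieve.coverByImage _ T).downward_closed (hc x) b

/-- base change along a universal homeomorphism is locally full -/
theorem isLocallyFull_bcP : (ProEtS.bcP i).IsLocallyFull (Scheme.ProEt.topology Z) := by
  refine ⟨fun {U U'} f => ?_⟩
  let G := ProEtS.bcP i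
  let s : G.obj U ⟶ G.obj (U ⨯ U') :=
    prod.lift (𝟙 (G.obj U)) f ≫ inv (prodComparison G U U')
  have hs1 : s ≫ G.map prod.fst = 𝟙 _ := by
    rw [Category.assoc, inv_prodComparison_map_fst, prod.lift_fst]
  have hs2 : s ≫ G.map prod.snd = f := by
    rw [Category.assoc, inv_prodComparison_map_snd, prod.lift_snd]
  let P := U ⨯ U'
  have : WeaklyEtale P.hom := P.prop
  have : WeaklyEtale (pullback.snd P.hom i) := inferInstance
  have := ProEtLib.weaklyEtale_left s
  let T : (pullback P.hom i).ProEt := @Scheme.ProEt.mk _ _ s.left this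
  have h1 : IsIntegralHom (pullback.fst P.hom i) := MorphismProperty.pullback_fst (P := @IsIntegralHom) P.hom i inferInstance
  have h2 : UniversallyInjective (pullback.fst P.hom i) :=
    MorphismProperty.pullback_fst (P := @UniversallyInjective) P.hom i inferInstance
  have h3 : Surjective (pullback.fst P.hom i) := MorphismProperty.pullback_fst (P := @Surjective) P.hom i inferInstance
  have := isCoverDense_bcP (pullback.fst P.hom i)
  let eT : G.obj U ≅ (ProEtS.compP (pullback.snd P.hom i)).obj T :=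
    MorphismProperty.Over.isoMk (Iso.refl _) ((Category.id_comp _).trans (MorphismProperty.Over.w s))
  have hT := EtModLC71.exists_family ((ProEtS.bcP (pullback.fst P.hom i)).is_cover_of_isCoverDense
    (Scheme.ProEt.topology _) T) (pullback.snd P.hom i)
  refine GrothendieckTopology.superset_covering _ ?_ ((Scheme.ProEt.topology Z).pullback_stable eT.hom hT)
  rintro W a ⟨T₁, r, t, ⟨⟨V, l, m, hlm⟩⟩, hrt⟩
  have hw : a.left = t.left ≫ l.left ≫ m.left := by
    have h1 := congrArg (fun q => q.left) hrt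
    have h2 : r.left = l.left ≫ m.left := (congrArg (fun q => q.left) hlm).symm
    exact (Category.comp_id _).symm.trans (h1.trans (congrArg (t.left ≫ ·) h2))
  have : WeaklyEtale V.hom := V.prop
  let V' : X.ProEt := Scheme.ProEt.mk (V.hom ≫ P.hom)
  let c : V' ⟶ P := MorphismProperty.Over.homMk V.hom
  let φ : pullback V.hom (pullback.fst P.hom i) ≅ pullback (V.hom ≫ P.hom) i :=
    pullbackRightPullbackFstIso P.hom i V.hom
  have hsnd : φ.hom ≫ pullback.snd (V.hom ≫ P.hom) i = pullback.snd _ _ ≫ pullback.snd P.hom i :=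
    pullbackRightPullbackFstIso_hom_snd _ _ _
  have hc : φ.hom ≫ (G.map c).left = pullback.snd _ _ := by
    apply pullback.hom_ext
    · exact (Category.assoc _ _ _).trans ((congrArg (φ.hom ≫ ·) (pullback.lift_fst _ _ _)).trans
        ((Category.assoc _ _ _).symm.trans ((congrArg (· ≫ V.hom) (pullbackRightPullbackFstIso_hom_fst _ _ _)).trans
          pullback.condition)))
    · exact (Category.assoc _ _ _).trans ((congrArg (φ.hom ≫ ·) (MorphismProperty.Over.w (G.map c))).trans hsnd)
  have key : ∀ {Q : X.ProEt} (p : P ⟶ Q), φ.hom ≫ (G.map (c ≫ p)).left = m.left ≫ (s ≫ G.map p).left :=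
    fun p => (congrArg (fun q => φ.hom ≫ q.left) (G.map_comp c p)).trans ((Category.assoc _ _ _).symm.trans
      ((congrArg (· ≫ (G.map p).left) (hc.trans (MorphismProperty.Over.w m).symm)).trans (Category.assoc _ _ _)))
  have h1 : φ.hom ≫ (G.map (c ≫ prod.fst)).left = m.left :=
    (key prod.fst).trans ((congrArg (fun q => m.left ≫ q.left) hs1).trans (Category.comp_id _))
  refine ⟨V', c ≫ prod.fst, MorphismProperty.Over.homMk (t.left ≫ l.left ≫ φ.hom) ?_, ⟨c ≫ prod.snd, ?_⟩, ?_⟩
  · refine (Category.assoc _ _ _).trans (Eq.trans ?_ (MorphismProperty.Over.w t))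
    exact congrArg (t.left ≫ ·) ((Category.assoc _ _ _).trans ((congrArg (l.left ≫ ·) hsnd).trans
      ((Category.assoc _ _ _).symm.trans (congrArg (· ≫ pullback.snd P.hom i) (MorphismProperty.Over.w l)))))
  · apply MorphismProperty.Over.Hom.ext
    refine (cancel_epi φ.hom).1 ((key prod.snd).trans ((congrArg (fun q => m.left ≫ q.left) hs2).trans ?_))
    exact (congrArg (· ≫ f.left) h1).symm.trans (Category.assoc _ _ _)
  · apply MorphismProperty.Over.Hom.ext
    refine hw.trans (((congrArg (fun q => t.left ≫ l.left ≫ q) h1).symm).trans ?_)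
    exact ((Category.assoc _ _ _).trans (congrArg (t.left ≫ ·) (Category.assoc _ _ _))).symm

omit [IsIntegralHom i] [UniversallyInjective i] [Surjective i] in
/-- finitely many quasi-compact objects jointly surjecting onto an affine object cover it -/
theorem mem_of_finite_compact {U : X.ProEt} [IsAffine U.left] {ι : Type u} [Finite ι] (P : ι → X.ProEt)
    (p : ∀ k, P k ⟶ U) (hc : ∀ k, CompactSpace (P k).left) (hs : ∀ x, ∃ k, x ∈ Set.range (p k).left.base) :
    Sieve.generate (Presieve.ofArrows P p) ∈ Scheme.ProEt.topology X U := by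
  rw [ProEtLib.mem_topology_iff]
  refine ⟨_, ?_, Sieve.le_generate _⟩
  rw [ProEtLib.ofArrows_mem_precoverage_iff, ProEtLib.mem_proetalePrecoverage_iff]
  refine ⟨⟨fun {U'} hU' => IsCompactOpenCovered.of_finite_of_isSpectralMap
    (fun k => ?_) (fun x _ => hs x) U'.2 hU'.isCompact⟩, hs, fun k => ProEtLib.weaklyEtale_left (p k)⟩
  have := hc k
  have : QuasiCompact (p k).left := quasiCompact_iff_compactSpace _ |>.2 inferInstance
  exact (p k).left.isSpectralMap

omit [UniversallyInjective i] in
/-- sieves covering after base change cover -/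
theorem mem_of_functorPushforward_mem {U : X.ProEt} {S : Sieve U}
    (h : S.functorPushforward (ProEtS.bcP i) ∈ Scheme.ProEt.topology Z ((ProEtS.bcP i).obj U)) :
    S ∈ Scheme.ProEt.topology X U := by
  let G := ProEtS.bcP i
  obtain ⟨T, hT, hle⟩ := (ProEtLib.mem_topology_iff _).1 h
  obtain ⟨ι, W, w, rfl⟩ := T.exists_eq_ofArrows
  rw [ProEtLib.ofArrows_mem_precoverage_iff, ProEtLib.mem_proetalePrecoverage_iff] at hT
  have := hT.1
  choose V g c hg hw using fun k => hle _ _ (Presieve.ofArrows.mk (Y := W) (f := w) k)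
  let fU : pullback U.hom i ⟶ U.left := pullback.fst U.hom i
  have hfU : Surjective fU := MorphismProperty.pullback_fst (P := @Surjective) U.hom i inferInstance
  have hiU : IsIntegralHom fU := MorphismProperty.pullback_fst (P := @IsIntegralHom) U.hom i inferInstance
  refine (Scheme.ProEt.topology X).transitive
    (ProEtLib.opens_mem_topology U (fun O : U.left.affineOpens => O.1) fun x => by
      obtain ⟨O, hO, hx, -⟩ := exists_isAffineOpen_mem_and_subset (show x ∈ (⊤ : U.left.Opens) from trivial)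
      exact ⟨⟨O, hO⟩, hx⟩) S ?_
  rintro Y f ⟨Y', a, _, ⟨O⟩, rfl⟩
  rw [Sieve.pullback_comp]
  refine (Scheme.ProEt.topology X).pullback_stable a ?_
  let O' : (pullback U.hom i).Opens := fU ⁻¹ᵁ O.1
  obtain ⟨n, b, Q, hQ, hcov⟩ := QuasiCompactCover.exists_isAffineOpen_of_isCompact
    (PreZeroHypercover.mk ι (fun k => (W k).left) fun k => (w k).left) (U := O')
    (O.2.preimage fU).isCompact
  let t : ∀ k, (W k).left ⟶ (V k).left := fun k => (c k).left ≫ pullback.fst (V k).hom i
  have ht : ∀ k, t k ≫ (g k).left = (w k).left ≫ fU := fun k => by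
    have h1 := congrArg (fun q => q.left) (hw k)
    have h2 : (G.map (g k)).left ≫ fU = pullback.fst (V k).hom i ≫ (g k).left := pullback.lift_fst _ _ _
    refine ((Category.assoc _ _ _).trans ?_)
    rw [h1]
    exact ((congrArg ((c k).left ≫ ·) h2).symm).trans (Category.assoc _ _ _).symm
  have hK : ∀ m, ∃ R : (V (b m)).left.Opens, IsCompact (R : Set (V (b m)).left) ∧
      (t (b m)).base '' (Q m : Set _) ⊆ R ∧ R ≤ (g (b m)).left ⁻¹ᵁ O.1 := fun m => by
    classical
    have hsub : ∀ y ∈ (t (b m)).base '' (Q m : Set _), ∃ R : (V (b m)).left.Opens,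
        IsAffineOpen R ∧ y ∈ R ∧ R ≤ (g (b m)).left ⁻¹ᵁ O.1 := by
      rintro _ ⟨y, hy, rfl⟩
      have hO : (w (b m)).left.base y ∈ O' := by
        exact hcov.le (Set.mem_iUnion.2 ⟨m, y, hy, rfl⟩)
      obtain ⟨R, hR, hy', hle'⟩ := exists_isAffineOpen_mem_and_subset
        (show (t (b m)).base y ∈ (g (b m)).left ⁻¹ᵁ O.1 from by
          show (g (b m)).left.base ((t (b m)).base y) ∈ O.1
          rw [← Scheme.Hom.comp_apply, ht, Scheme.Hom.comp_apply]
          exact hO)
      exact ⟨R, hR, hy', hle'⟩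
    choose R hR hyR hRle using hsub
    obtain ⟨s, hs⟩ := ((hQ m).isCompact.image (t (b m)).continuous).elim_finite_subcover
      (fun y : ↥((t (b m)).base '' (Q m : Set _)) => (R y.1 y.2 : Set (V (b m)).left))
      (fun y => (R y.1 y.2).2) fun y hy => Set.mem_iUnion.2 ⟨⟨y, hy⟩, hyR y hy⟩
    refine ⟨s.sup fun y => R y.1 y.2, ?_, fun y hy => ?_, Finset.sup_le fun y _ => hRle y.1 y.2⟩
    · rw [TopologicalSpace.Opens.coe_finset_sup]
      rw [Finset.sup_eq_iSup]
      exact s.isCompact_biUnion fun y _ => (hR y.1 y.2).isCompact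
    · obtain ⟨z, hz, hyz⟩ := Set.mem_iUnion₂.1 (hs hy)
      exact (Finset.le_sup (f := fun y => R y.1 y.2) hz) hyz
  choose R hRc hRs hRle using hK
  let Ob := ProEtLib.opObj U O.1
  have : IsAffine Ob.left := O.2
  let P : ULift.{u} (Fin n) → X.ProEt := fun m => ProEtLib.opObj (V (b m.down)) (R m.down)
  let p : ∀ m, P m ⟶ Ob := fun m => MorphismProperty.Over.homMk
    (Scheme.Hom.resLE (g (b m.down)).left O.1 (R m.down) (hRle m.down)) (by
      change _ ≫ O.1.ι ≫ U.hom = (R m.down).ι ≫ (V (b m.down)).hom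
      rw [← Category.assoc, Scheme.Hom.resLE_comp_ι, Category.assoc, MorphismProperty.Over.w])
  refine GrothendieckTopology.superset_covering _ ?_ (mem_of_finite_compact P p
    (fun m => isCompact_iff_compactSpace.1 (hRc m.down)) fun x => ?_)
  · rintro T' k ⟨T'', d, _, ⟨m⟩, rfl⟩
    refine Sieve.downward_closed _ ?_ d
    show S (p m ≫ ProEtLib.opHom U O.1)
    have : p m ≫ ProEtLib.opHom U O.1 = ProEtLib.opHom (V (b m.down)) (R m.down) ≫ g (b m.down) :=
      MorphismProperty.Over.Hom.ext (Scheme.Hom.resLE_comp_ι _ _)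
    rw [this]
    exact S.downward_closed (hg _) _
  · obtain ⟨z, hz⟩ := hfU.surj (O.1.ι.base x)
    have hzO : z ∈ SetLike.coe O' := by
      show fU.base z ∈ O.1
      rw [hz]; exact x.2
    obtain ⟨m, y, hy, hyz⟩ := Set.mem_iUnion.1 (hcov.ge hzO)
    refine ⟨⟨m⟩, ⟨(t (b m)).base y, hRs m ⟨y, hy, rfl⟩⟩, O.1.ι.isOpenEmbedding.injective ?_⟩
    refine (Scheme.Hom.comp_apply (p ⟨m⟩).left O.1.ι _).symm.trans ?_
    refine (congrArg (fun k : (R m).toScheme ⟶ U.left => k.base _) (Scheme.Hom.resLE_comp_ι _ _)).trans ?_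
    refine (Scheme.Hom.comp_apply _ _ _).trans ?_
    show (g (b m)).left.base ((t (b m)).base y) = _
    rw [← Scheme.Hom.comp_apply, ht, Scheme.Hom.comp_apply, ← hz]
    exact congrArg fU.base hyz

/-- base change along a universal homeomorphism is a dense subsite -/
theorem isDenseSubsite_bcP [ProEtS.PCont i] :
    (ProEtS.bcP i).IsDenseSubsite (Scheme.ProEt.topology X) (Scheme.ProEt.topology Z) where
  isCoverDense' := isCoverDense_bcP i
  isLocallyFull' := isLocallyFull_bcP i
  isLocallyFaithful' := EtModLC71.isLocallyFaithful_bcP i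
  functorPushforward_mem_iff := ⟨mem_of_functorPushforward_mem i, fun h => by
    have : RepresentablyFlat (ProEtS.bcP i) := flat_of_preservesFiniteLimits _
    exact (Functor.isContinuous_iff_coverPreserving.1 ‹ProEtS.PCont i›).cover_preserve h⟩

end Groth.Agent.ProUH71
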